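import Mathlib
import Cfsg.Prelude
import Cfsg.Agent.Lib.PSolvable.Core
import Cfsg.Agent.Lib.Components.GenFitting
import Cfsg.Agent.Lib.PGroup.Thompson
import Cfsg.Agent.Lib.ThompsonNPC.GlaubermanThompson
import Cfsg.Agent.Lib.Coprime.ThompsonFPF

/-!
A normal subgroup all of whose noncentral elements have maximal centralisers has a noncentral
normal `p`-subgroup.
-/

set_option autoImplicit false

namespace Cfsg.Agent.Lib.MaxCentralisers

universe u

open Cfsg Cfsg.Agent.Lib

variable {G : Type u} [Group G]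

/-- The noncentral elements of `N`. -/
def Nc (N : Subgroup G) (x : G) : Prop := x ∈ N ∧ x ∉ Subgroup.centralizer (N : Set G)

/-- The centre of `N`. -/
def cen (N : Subgroup G) : Subgroup G := N ⊓ Subgroup.centralizer (N : Set G)

/-- The hypothesis. -/
def Hyp (N : Subgroup G) : Prop :=
  ∀ x : G, x ∈ N → x ∉ Subgroup.centralizer (N : Set G) →
    IsCoatom (Subgroup.centralizer ({x} : Set G))

/-- An element lies in any subgroup containing two powers of coprime exponents. -/
theorem mem_of_pow_mem {H : Subgroup G} {x : G} {a b : ℕ} (hab : Nat.Coprime a b)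
    (ha : x ^ a ∈ H) (hb : x ^ b ∈ H) : x ∈ H := by
  have h := Nat.gcd_eq_gcd_ab a b
  rw [hab.gcd_eq_one, Nat.cast_one] at h
  have : x = (x ^ a) ^ Nat.gcdA a b * (x ^ b) ^ Nat.gcdB a b := by
    rw [← zpow_natCast x a, ← zpow_natCast x b, ← zpow_mul, ← zpow_mul, ← zpow_add, ← h, zpow_one]
  rw [this]
  exact mul_mem (zpow_mem ha _) (zpow_mem hb _)

/-- A group whose elements of order prime to `p` are central is nilpotent. -/
theorem isNilpotent_of_pPrime_central {D : Type*} [Group D] [Finite D] (p : ℕ) [Fact p.Prime]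
    (h : ∀ z : D, ¬ p ∣ orderOf z → z ∈ Subgroup.center D) : Group.IsNilpotent D := by
  have hp : IsPGroup p (D ⧸ Subgroup.center D) := by
    intro q
    obtain ⟨z, rfl⟩ := QuotientGroup.mk_surjective q
    obtain ⟨a, r, hr, har⟩ :=
      Nat.exists_eq_pow_mul_and_not_dvd (orderOf_pos z).ne' p (Fact.out : p.Prime).ne_one
    refine ⟨a, ?_⟩
    rw [← QuotientGroup.mk_pow]
    refine (QuotientGroup.eq_one_iff _).mpr (h _ ?_)
    rw [orderOf_pow_of_dvd (pow_ne_zero _ (Fact.out : p.Prime).ne_zero) (Dvd.intro r har.symm),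
      har, Nat.mul_div_cancel_left _ (pow_pos (Fact.out : p.Prime).pos _)]
    exact hr
  have := hp.isNilpotent
  exact Subgroup.isNilpotent_of_ker_le_center (QuotientGroup.mk' (Subgroup.center D))
    (by rw [QuotientGroup.ker_mk'])

theorem centerThompsonOf_map {G' : Type u} [Group G'] [Finite G] {p : ℕ} [Fact p.Prime]
    {f : G' →* G} (hf : Function.Injective f)
    (U : Subgroup G') : centerThompsonOf p (U.map f) = (centerThompsonOf p U).map f := by
  rw [centerThompsonOf, centerThompsonOf, Thompson.thompsonSubgroupOf_map hf,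
    Subgroup.map_inf _ _ _ hf]
  refine le_antisymm (fun x hx => ?_) (inf_le_inf_left _ ?_)
  · obtain ⟨⟨y, hy, rfl⟩, hc⟩ := hx
    exact ⟨⟨y, hy, rfl⟩, Subgroup.mem_map_of_mem f (Subgroup.mem_centralizer_iff.mpr fun a ha =>
      hf (by simpa using Subgroup.mem_centralizer_iff.mp hc _ (Subgroup.mem_map_of_mem f ha)))⟩
  · rintro _ ⟨y, hy, rfl⟩
    rw [Subgroup.mem_centralizer_iff]
    rintro _ ⟨a, ha, rfl⟩
    rw [← map_mul, ← map_mul, Subgroup.mem_centralizer_iff.mp hy a ha]

section Elements

variable {N : Subgroup G}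

theorem mem_cen_iff {x : G} (hx : x ∈ N) : x ∈ cen N ↔ ¬ Nc N x :=
  ⟨fun h hn => hn.2 h.2, fun h => ⟨hx, by_contra fun hc => h ⟨hx, hc⟩⟩⟩

theorem cen_normal (hN : N.Normal) : (cen N).Normal := by
  unfold cen; infer_instance

theorem commute_of_cen {c n : G} (hc : c ∈ cen N) (hn : n ∈ N) : Commute n c :=
  Subgroup.mem_centralizer_iff.mp hc.2 n hn

theorem nc_of_pow {x : G} (hx : x ∈ N) {k : ℕ} (h : Nc N (x ^ k)) : Nc N x :=
  ⟨hx, fun hc => h.2 (pow_mem hc k)⟩

variable (H : Hyp N)
include H

theorem centralizer_eq_of_le {x y : G} (hx : Nc N x) (hy : Nc N y)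
    (h : Subgroup.centralizer ({x} : Set G) ≤ Subgroup.centralizer ({y} : Set G)) :
    Subgroup.centralizer ({x} : Set G) = Subgroup.centralizer ({y} : Set G) := by
  by_contra hne
  exact (H y hy.1 hy.2).1 ((H x hx.1 hx.2).2 _ (lt_of_le_of_ne h hne))

theorem centralizer_pow {x : G} (hx : x ∈ N) {k : ℕ} (h : Nc N (x ^ k)) :
    Subgroup.centralizer ({x ^ k} : Set G) = Subgroup.centralizer ({x} : Set G) := by
  refine (centralizer_eq_of_le H (nc_of_pow hx h) h fun g hg => ?_).symm
  rw [Subgroup.mem_centralizer_singleton_iff] at hg ⊢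
  exact ((show Commute g x from hg).pow_right k).eq

/-- Commuting noncentral elements of coprime order have the same centraliser. -/
theorem centralizer_eq_of_coprime {x y : G} (hx : Nc N x) (hy : Nc N y) (hxy : Commute x y)
    (hco : (orderOf x).Coprime (orderOf y)) :
    Subgroup.centralizer ({x} : Set G) = Subgroup.centralizer ({y} : Set G) := by
  have hz : x * y ∈ N := mul_mem hx.1 hy.1
  obtain ⟨e, he1, he2⟩ := Nat.chineseRemainder hco 1 0
  obtain ⟨f, hf1, hf2⟩ := Nat.chineseRemainder hco 0 1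
  have h1 : (x * y) ^ e = x := by
    rw [hxy.mul_pow, orderOf_dvd_iff_pow_eq_one.mp (Nat.modEq_zero_iff_dvd.mp he2), mul_one]
    conv_rhs => rw [← pow_one x]
    exact pow_eq_pow_iff_modEq.mpr he1
  have h2 : (x * y) ^ f = y := by
    rw [hxy.mul_pow, orderOf_dvd_iff_pow_eq_one.mp (Nat.modEq_zero_iff_dvd.mp hf1), one_mul]
    conv_rhs => rw [← pow_one y]
    exact pow_eq_pow_iff_modEq.mpr hf2
  have e1 := centralizer_pow H hz (k := e) (by rwa [h1])
  have e2 := centralizer_pow H hz (k := f) (by rwa [h2])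
  rw [h1] at e1
  rw [h2] at e2
  rw [e1, e2]

/-- In the centraliser of a noncentral `p`-element the elements of order prime to `p` are central. -/
theorem commute_pPrime [Finite G] {p : ℕ} (hp : p.Prime) {x z d : G} (hx : Nc N x)
    (hxp : ∃ k, orderOf x = p ^ k) (hz : z ∈ N) (hzx : Commute z x) (hzp : ¬ p ∣ orderOf z)
    (hd : d ∈ N) (hdx : Commute d x) : Commute d z := by
  by_cases hzc : z ∈ cen N
  · exact commute_of_cen hzc hd
  obtain ⟨k, hk⟩ := hxp
  have := centralizer_eq_of_coprime H hx ⟨hz, fun h => hzc ⟨hz, h⟩⟩ hzx.symm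
    (by rw [hk]; exact Nat.Coprime.pow_left _ (hp.coprime_iff_not_dvd.mpr hzp))
  have hd' : d ∈ Subgroup.centralizer ({z} : Set G) :=
    this ▸ Subgroup.mem_centralizer_singleton_iff.mpr hdx.eq
  exact Subgroup.mem_centralizer_singleton_iff.mp hd'

end Elements

theorem exists_primary [Finite G] {N : Subgroup G} :
    ∀ (n : ℕ) (x : G), orderOf x = n → Nc N x →
      ∃ (q k : ℕ), q.Prime ∧ Nc N (x ^ k) ∧ ∃ j, orderOf (x ^ k) = q ^ j := by
  intro n
  induction n using Nat.strong_induction_on with
  | _ n ih =>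
  intro x hn hx
  have hn1 : n ≠ 1 := fun e => hx.2 (by
    rw [orderOf_eq_one_iff.mp (hn.trans e)]; exact one_mem _)
  obtain ⟨q, hq, hqd⟩ := Nat.exists_prime_and_dvd hn1
  have hn0 : n ≠ 0 := hn ▸ (orderOf_pos x).ne'
  obtain ⟨a, r, hr, har⟩ := Nat.exists_eq_pow_mul_and_not_dvd hn0 q hq.ne_one
  have ha : a ≠ 0 := by
    rintro rfl
    rw [pow_zero, one_mul] at har
    exact hr (har ▸ hqd)
  by_cases h : Nc N (x ^ r)
  · refine ⟨q, r, hq, h, a, ?_⟩
    rw [orderOf_pow_of_dvd (fun e => hr (by rw [e]; exact dvd_zero q))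
      (by rw [hn, har]; exact dvd_mul_left r _), hn,
      har, Nat.mul_div_cancel _ (Nat.pos_of_ne_zero fun e => hr (by rw [e]; exact dvd_zero q))]
  have h' : Nc N (x ^ (q ^ a)) := ⟨pow_mem hx.1 _, fun hc => hx.2
    (mem_of_pow_mem (Nat.Coprime.pow_left a (hq.coprime_iff_not_dvd.mpr hr)) hc
      (by_contra fun hc' => h ⟨pow_mem hx.1 _, hc'⟩))⟩
  have hrpos : 0 < r := Nat.pos_of_ne_zero fun e => hr (by rw [e]; exact dvd_zero q)
  obtain ⟨q', k, hq', hk, hj⟩ := ih r (by
      rw [har]
      exact lt_mul_of_one_lt_left hrpos (one_lt_pow₀ hq.one_lt ha)) (x ^ (q ^ a)) (by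
      rw [orderOf_pow_of_dvd (pow_ne_zero _ hq.ne_zero) (by rw [hn, har]; exact dvd_mul_right _ r), hn,
        har, Nat.mul_div_cancel_left _ (pow_pos hq.pos _)]) h'
  rw [← pow_mul] at hk hj
  exact ⟨q', _, hq', hk, hj⟩

/-- The `p`-elements of a subgroup with a normal Sylow `p`-subgroup form it. -/
theorem mem_sylow_of_normal {D : Type*} [Group D] [Finite D] {p : ℕ} [Fact p.Prime]
    (S : Sylow p D) [(S : Subgroup D).Normal] {d : D} (hd : ∃ k, orderOf d = p ^ k) :
    d ∈ (S : Subgroup D) := by
  obtain ⟨k, hk⟩ := hd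
  obtain ⟨P, hP⟩ := (IsPGroup.of_card (G := Subgroup.zpowers d) (n := k) (p := p)
    (by rw [Nat.card_zpowers, hk])).exists_le_sylow
  have : Subsingleton (Sylow p D) := Sylow.unique_of_normal S ‹_› |>.instSubsingleton
  rw [Subsingleton.elim S P]
  exact hP (Subgroup.mem_zpowers d)

variable [Finite G] {N : Subgroup G}

/-- A nilpotent normal subgroup with a noncentral element gives a noncentral normal `p`-subgroup. -/
theorem exists_of_nilpotent {Y : Subgroup G} (hY : Y.Normal) (hYN : Y ≤ N)
    (hnil : Group.IsNilpotent Y) {y : G} (hy : y ∈ Y) (hync : Nc N y) :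
    ∃ (p : ℕ) (P : Subgroup G), p.Prime ∧ P.Normal ∧ P ≤ N ∧ IsPGroup p P ∧ ∃ x ∈ P, Nc N x := by
  obtain ⟨q, k, hq, hk, j, hj⟩ := exists_primary _ y rfl hync
  have := Fact.mk hq
  obtain ⟨S⟩ : Nonempty (Sylow q Y) := inferInstance
  have hSn : (S : Subgroup Y).Normal :=
    S.normal_of_normalizerCondition Group.normalizerCondition_of_isNilpotent
  have : (S : Subgroup Y).Characteristic := Sylow.characteristic_of_normal S hSn
  refine ⟨q, (S : Subgroup Y).map Y.subtype, hq, inferInstance,
    (Subgroup.map_subtype_le _).trans hYN, S.2.map _, y ^ k, ?_, hk⟩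
  exact ⟨⟨y ^ k, pow_mem hy k⟩, mem_sylow_of_normal S ⟨j, by rw [Subgroup.orderOf_mk, hj]⟩, rfl⟩

/-- A nilpotent normal subgroup of `N` (not necessarily of `G`) with a noncentral element. -/
theorem exists_of_nilpotent' (hN : N.Normal) {Y : Subgroup N} (hY : Y.Normal)
    (hnil : Group.IsNilpotent Y) {y : N} (hy : y ∈ Y) (hync : Nc N (y : G)) :
    ∃ (p : ℕ) (P : Subgroup G), p.Prime ∧ P.Normal ∧ P ≤ N ∧ IsPGroup p P ∧ ∃ x ∈ P, Nc N x := by
  have := Components.fittingSubgroup_characteristic (G := N)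
  have := Components.fittingSubgroup_isNilpotent (G := N)
  refine exists_of_nilpotent (Y := (fittingSubgroup N).map N.subtype) inferInstance
    (Subgroup.map_subtype_le _) ?_
    (Subgroup.mem_map_of_mem _ (Components.le_fittingSubgroup hY hnil hy)) hync
  exact Group.nilpotent_of_mulEquiv
    ((fittingSubgroup N).equivMapOfInjective N.subtype N.subtype_injective)

/-- A preimage of a nilpotent subgroup modulo the centre is nilpotent. -/
theorem isNilpotent_comap_center {M : Type*} [Group M] {Y : Subgroup (M ⧸ Subgroup.center M)}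
    (h : Group.IsNilpotent Y) :
    Group.IsNilpotent (Y.comap (QuotientGroup.mk' (Subgroup.center M))) := by
  refine Subgroup.isNilpotent_of_ker_le_center
    ((QuotientGroup.mk' (Subgroup.center M)).subgroupComap Y) ?_
  intro z hz
  rw [Subgroup.mem_center_iff]
  intro w
  have h1 : (z : M) ∈ Subgroup.center M :=
    (QuotientGroup.eq_one_iff _).mp (congrArg Subtype.val hz)
  exact Subtype.ext (Subgroup.mem_center_iff.mp h1 w)

/-- The existence of a noncentral normal `p`-subgroup. -/
theorem exists_noncentral_pGroup (hN : N.Normal) (H : Hyp N) {x₀ : G} (hx₀ : Nc N x₀) :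
    ∃ (p : ℕ) (P : Subgroup G), p.Prime ∧ P.Normal ∧ P ≤ N ∧ IsPGroup p P ∧ ∃ x ∈ P, Nc N x := by
  classical
  by_contra hno
  set π := QuotientGroup.mk' (Subgroup.center N) with hπdef
  have hπ : Function.Surjective π := QuotientGroup.mk'_surjective _
  have hnc_iff : ∀ y : N, Nc N (y : G) ↔ y ∉ Subgroup.center N := fun y => by
    refine ⟨fun h hc => h.2 (Subgroup.mem_centralizer_iff.mpr fun n hn => ?_),
      fun h => ⟨y.2, fun hc => h (Subgroup.mem_center_iff.mpr fun n => Subtype.ext ?_)⟩⟩
    · exact congrArg Subtype.val (Subgroup.mem_center_iff.mp hc ⟨n, hn⟩)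
    · exact Subgroup.mem_centralizer_iff.mp hc n n.2
  -- normal `p`-complements for the odd primes dividing the order of the quotient
  have hcompl : ∀ p : ℕ, p.Prime → p ≠ 2 → p ∣ Nat.card (N ⧸ Subgroup.center N) →
      HasNormalPComplement p (N ⧸ Subgroup.center N) := by
    intro p hp hp2 hdvd
    have := Fact.mk hp
    obtain ⟨yb, hyb⟩ := exists_prime_orderOf_dvd_card' p hdvd
    obtain ⟨y₁, rfl⟩ := hπ yb
    obtain ⟨a, r, hr, har⟩ :=
      Nat.exists_eq_pow_mul_and_not_dvd (orderOf_pos (y₁ : G)).ne' p hp.ne_one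
    set x := (y₁ : G) ^ r with hxdef
    have hxo : orderOf x = p ^ a := by
      rw [hxdef, orderOf_pow_of_dvd (fun e => hr (by rw [e]; exact dvd_zero p)) (Dvd.intro_left _ har.symm),
        har, Nat.mul_div_cancel _ (Nat.pos_of_ne_zero fun e => hr (by rw [e]; exact dvd_zero p))]
    have hxnc : Nc N x := by
      rw [hxdef, ← Subgroup.coe_pow, hnc_iff]
      intro hc
      apply hr
      rw [← hyb]
      exact orderOf_dvd_of_pow_eq_one ((map_pow π y₁ r).symm.trans ((QuotientGroup.eq_one_iff _).mpr hc))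
    set Cx := Subgroup.centralizer ({x} : Set G) with hCx
    set x' : N := ⟨x, hxnc.1⟩ with hx'
    set D := Subgroup.centralizer ({x'} : Set N) with hD
    have hmemD : ∀ d : N, d ∈ D ↔ (d : G) ∈ Cx := fun d => by
      rw [hD, hCx, Subgroup.mem_centralizer_singleton_iff, Subgroup.mem_centralizer_singleton_iff]
      exact Subtype.ext_iff
    have hcentD : ∀ z : D, ¬ p ∣ orderOf z → z ∈ Subgroup.center D := fun z hz => by
      rw [Subgroup.mem_center_iff]
      intro d
      refine Subtype.ext (Subtype.ext ?_)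
      exact commute_pPrime H hp hxnc ⟨a, hxo⟩ (z : N).2
        (Subgroup.mem_centralizer_singleton_iff.mp ((hmemD _).mp z.2))
        (by rwa [Subgroup.orderOf_coe, Subgroup.orderOf_coe]) (d : N).2
        (Subgroup.mem_centralizer_singleton_iff.mp ((hmemD _).mp d.2))
    have hDnil : Group.IsNilpotent D := isNilpotent_of_pPrime_central p hcentD
    obtain ⟨S⟩ : Nonempty (Sylow p D) := inferInstance
    have hSn : (S : Subgroup D).Normal :=
      S.normal_of_normalizerCondition Group.normalizerCondition_of_isNilpotent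
    set R := (S : Subgroup D).map D.subtype with hRdef
    have hmemR : ∀ d : N, d ∈ D → (∃ k, orderOf d = p ^ k) → d ∈ R := fun d hd hk =>
      ⟨⟨d, hd⟩, mem_sylow_of_normal S (by simpa [Subgroup.orderOf_mk] using hk), rfl⟩
    have hxR : x' ∈ R := hmemR x' ((hmemD _).mpr (Subgroup.mem_centralizer_singleton_iff.mpr rfl))
      ⟨a, by rw [hx', Subgroup.orderOf_mk, hxo]⟩
    have hRp : IsPGroup p R := S.2.map _
    -- `C(x)` permutes `R`
    have hRinv : ∀ g ∈ Cx, ∀ d ∈ R, (MulAut.conjNormal g : MulAut N) d ∈ R := by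
      intro g hg d hd
      have hdD : d ∈ D := Subgroup.map_subtype_le _ hd
      refine hmemR _ ((hmemD _).mpr ?_) ?_
      · rw [MulAut.conjNormal_apply]
        exact mul_mem (mul_mem hg ((hmemD d).mp hdD)) (inv_mem hg)
      · rw [MulEquiv.orderOf_eq]
        obtain ⟨d', hd', rfl⟩ := hd
        obtain ⟨k, hk⟩ := IsPGroup.iff_orderOf.mp S.2 ⟨d', hd'⟩
        exact ⟨k, by rw [Subgroup.orderOf_mk] at hk; rw [← hk]; exact Subgroup.orderOf_coe d'⟩
    -- `R` is a Sylow subgroup of `N`
    obtain ⟨P, hRP⟩ := hRp.exists_le_sylow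
    have hPR : (P : Subgroup N) = R := by
      by_contra hne
      have hlt : R.subgroupOf (P : Subgroup N) < ⊤ := lt_top_iff_ne_top.mpr fun e =>
        hne (le_antisymm (Subgroup.subgroupOf_eq_top.mp e) hRP)
      have := P.2.isNilpotent
      obtain ⟨g, hg, hgR⟩ := SetLike.exists_of_lt
        (Group.normalizerCondition_of_isNilpotent _ hlt)
      -- the stabiliser of `R` in `G`
      let T : Subgroup G :=
        { carrier := {g : G | ∀ d : N, d ∈ R ↔ (MulAut.conjNormal g : MulAut N) d ∈ R}
          one_mem' := fun d => by simp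
          mul_mem' := fun {a b} ha hb d => by rw [map_mul, MulAut.mul_apply, ← ha, ← hb]
          inv_mem' := fun {a} ha d => by
            rw [ha ((MulAut.conjNormal a⁻¹ : MulAut N) d), ← MulAut.mul_apply, ← map_mul,
              mul_inv_cancel, map_one, MulAut.one_apply] }
      have hCT : Cx ≤ T := fun c hc d => ⟨hRinv c hc d, fun h => by
        have := hRinv c⁻¹ (inv_mem hc) _ h
        rwa [← MulAut.mul_apply, ← map_mul, inv_mul_cancel, map_one, MulAut.one_apply] at this⟩
      have hgT : ((g : N) : G) ∈ T := by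
        intro d
        have e : (MulAut.conjNormal ((g : N) : G) : MulAut N) d = (g : N) * d * (g : N)⁻¹ :=
          Subtype.ext (by simp [MulAut.conjNormal_apply])
        rw [e]
        rw [Subgroup.mem_normalizer_iff] at hg
        refine ⟨fun hd => (hg ⟨d, hRP hd⟩).mp hd, fun hd => ?_⟩
        have hdP : d ∈ (P : Subgroup N) := by
          have h1 := (P : Subgroup N).mul_mem ((P : Subgroup N).mul_mem
            ((P : Subgroup N).inv_mem g.2) (hRP hd)) g.2
          simpa [mul_assoc] using h1
        exact (hg ⟨d, hdP⟩).mpr hd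
      rcases eq_or_lt_of_le hCT with e | hlt'
      · refine hgR (hmemR g ((hmemD _).mpr (e ▸ hgT)) ?_)
        obtain ⟨k, hk⟩ := IsPGroup.iff_orderOf.mp P.2 g
        exact ⟨k, by rw [← hk]; exact Subgroup.orderOf_coe g⟩
      · have hT : T = ⊤ := (H x hxnc.1 hxnc.2).2 _ hlt'
        have hRn : R.Normal := ⟨fun d hd n => by
          have := ((show ((n : G) : G) ∈ T from hT ▸ Subgroup.mem_top _) d).mp hd
          have e : (MulAut.conjNormal (n : G) : MulAut N) d = n * d * n⁻¹ :=
            Subtype.ext (by simp [MulAut.conjNormal_apply])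
          rwa [e] at this⟩
        exact hno (exists_of_nilpotent' hN hRn hRp.isNilpotent hxR hxnc)
    -- the centre of the Thompson subgroup modulo the centre
    set P' := P.mapSurjective hπ with hP'
    set Z := centerThompsonOf p (P' : Subgroup (N ⧸ Subgroup.center N)) with hZ
    have hP'R : (P' : Subgroup (N ⧸ Subgroup.center N)) = R.map π := by
      rw [hP', Sylow.coe_mapSurjective, hPR]
    have hP'ne : (P' : Subgroup (N ⧸ Subgroup.center N)) ≠ ⊥ := P'.ne_bot_of_dvd_card hdvd
    have hZne : Z ≠ ⊥ := ThompsonNPC.centerThompsonOf_ne_bot P'.2 hP'ne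
    have hZle : Z ≤ (P' : Subgroup _) :=
      inf_le_left.trans (Thompson.thompsonSubgroupOf_le p _)
    set W := Z.comap π with hW
    have hWnil : Group.IsNilpotent W :=
      isNilpotent_comap_center (P'.2.to_le hZle).isNilpotent
    obtain ⟨w, hwW, hwc⟩ : ∃ w ∈ W, w ∉ Subgroup.center N := by
      by_contra hall
      push Not at hall
      refine hZne ((Subgroup.eq_bot_iff_forall _).mpr fun z hz => ?_)
      obtain ⟨w, rfl⟩ := hπ z
      exact (QuotientGroup.eq_one_iff w).mpr (hall w hz)
    -- the stabiliser of `W` in `G`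
    let T : Subgroup G :=
      { carrier := {g : G | ∀ d : N, d ∈ W ↔ (MulAut.conjNormal g : MulAut N) d ∈ W}
        one_mem' := fun d => by simp
        mul_mem' := fun {a b} ha hb d => by rw [map_mul, MulAut.mul_apply, ← ha, ← hb]
        inv_mem' := fun {a} ha d => by
          rw [ha ((MulAut.conjNormal a⁻¹ : MulAut N) d), ← MulAut.mul_apply, ← map_mul,
            mul_inv_cancel, map_one, MulAut.one_apply] }
    have hCT : Cx ≤ T := by
      suffices key : ∀ c ∈ Cx, ∀ d ∈ W, (MulAut.conjNormal c : MulAut N) d ∈ W by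
        intro c hc d
        refine ⟨key c hc d, fun h => ?_⟩
        have := key c⁻¹ (inv_mem hc) _ h
        rwa [← MulAut.mul_apply, ← map_mul, inv_mul_cancel, map_one, MulAut.one_apply] at this
      intro c hc d hd
      let α : N →* N := (MulAut.conjNormal c : MulAut N).toMonoidHom
      have hcen : Subgroup.center N ≤ (Subgroup.center N).comap α := fun z hz => by
        rw [Subgroup.mem_comap, Subgroup.mem_center_iff]
        intro n
        obtain ⟨m, rfl⟩ := (MulAut.conjNormal c : MulAut N).surjective n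
        show (MulAut.conjNormal c : MulAut N) m * (MulAut.conjNormal c : MulAut N) z = _
        rw [← map_mul, Subgroup.mem_center_iff.mp hz m, map_mul]
        rfl
      let β : N ⧸ Subgroup.center N →* N ⧸ Subgroup.center N :=
        QuotientGroup.map _ _ α hcen
      have hβs : Function.Surjective β := fun q => by
        obtain ⟨n, rfl⟩ := hπ q
        obtain ⟨m, rfl⟩ := (MulAut.conjNormal c : MulAut N).surjective n
        exact ⟨π m, rfl⟩
      have hβ : Function.Injective β := Finite.injective_iff_surjective.mpr hβs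
      have hRmap : R.map α = R := by
        refine Subgroup.eq_of_le_of_card_ge ?_
          (Subgroup.card_map_of_injective (f := α) (MulAut.conjNormal c : MulAut N).injective).ge
        rintro _ ⟨r', hr', rfl⟩
        exact hRinv c hc r' hr'
      have hβP : (P' : Subgroup (N ⧸ Subgroup.center N)).map β = P' := by
        rw [hP'R, Subgroup.map_map]
        conv_rhs => rw [← hRmap, Subgroup.map_map]
        rfl
      show π (α d) ∈ Z
      have : β (π d) ∈ Z.map β := Subgroup.mem_map_of_mem β hd
      rwa [hZ, ← centerThompsonOf_map hβ, hβP] at this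
    rcases eq_or_lt_of_le hCT with e | hlt'
    · -- the normaliser of `Z` is nilpotent
      refine ThompsonNPC.hasNormalPComplement_of_glaubermanThompson hp2 P' ?_
      have : Group.IsNilpotent (Subgroup.normalizer
          (Z : Set (N ⧸ Subgroup.center N))) := by
        have hle : Subgroup.normalizer (Z : Set (N ⧸ Subgroup.center N)) ≤ D.map π := by
          intro q hq
          obtain ⟨n, rfl⟩ := hπ q
          refine ⟨n, (hmemD n).mpr (e ▸ ?_), rfl⟩
          intro d
          have e' : (MulAut.conjNormal (n : G) : MulAut N) d = n * d * n⁻¹ :=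
            Subtype.ext (by simp [MulAut.conjNormal_apply])
          rw [e', hW, Subgroup.mem_comap, Subgroup.mem_comap, map_mul, map_mul, map_inv]
          exact Subgroup.mem_normalizer_iff.mp hq (π d)
        have : Group.IsNilpotent (D.map π) :=
          Group.nilpotent_of_surjective (π.subgroupMap D) (π.subgroupMap_surjective D)
        exact Group.nilpotent_of_mulEquiv (Subgroup.subgroupOfEquivOfLe hle)
      exact Coprime.hasNormalPComplement_of_isNilpotent this
    · have hT : T = ⊤ := (H x hxnc.1 hxnc.2).2 _ hlt'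
      have hWn : W.Normal := ⟨fun d hd n => by
        have := ((show (n : G) ∈ T from hT ▸ Subgroup.mem_top _) d).mp hd
        have e : (MulAut.conjNormal (n : G) : MulAut N) d = n * d * n⁻¹ :=
          Subtype.ext (by simp [MulAut.conjNormal_apply])
        rwa [e] at this⟩
      exact (hno (exists_of_nilpotent' hN hWn hWnil hwW ((hnc_iff w).mpr hwc))).elim
  -- the intersection of the complements
  let ι := {p : ℕ // p.Prime ∧ p ≠ 2 ∧ p ∣ Nat.card (N ⧸ Subgroup.center N)}
  have : Finite ι := Finite.of_injective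
    (fun p : ι => (⟨p.1, Nat.lt_succ_of_le (Nat.le_of_dvd Nat.card_pos p.2.2.2)⟩ :
      Fin (Nat.card (N ⧸ Subgroup.center N) + 1)))
    fun a b h => Subtype.ext (congrArg Fin.val h)
  choose Pc Kc hKn hKc using fun p : ι => hcompl p.1 p.2.1 p.2.2.1 p.2.2.2
  set M := ⨅ p : ι, Kc p with hM
  have hMn : M.Normal := Subgroup.normal_iInf_normal hKn
  have hMnil : Group.IsNilpotent M := by
    have := Fact.mk Nat.prime_two
    refine IsPGroup.isNilpotent (p := 2) fun m => ?_
    obtain ⟨a, r, hr, har⟩ :=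
      Nat.exists_eq_pow_mul_and_not_dvd (orderOf_pos (m : N ⧸ Subgroup.center N)).ne' 2 (by omega)
    refine ⟨a, Subtype.ext ?_⟩
    rw [Subgroup.coe_pow, Subgroup.coe_one, ← orderOf_dvd_iff_pow_eq_one, har]
    suffices r = 1 by rw [this, mul_one]
    by_contra hr1
    obtain ⟨q, hq, hqr⟩ := Nat.exists_prime_and_dvd hr1
    have hqo : q ∣ orderOf (m : N ⧸ Subgroup.center N) := har ▸ hqr.mul_left _
    have hq2 : q ≠ 2 := fun e => hr (e ▸ hqr)
    let p : ι := ⟨q, hq, hq2, hqo.trans (orderOf_dvd_natCard _)⟩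
    have := Fact.mk hq
    have hmK : (m : N ⧸ Subgroup.center N) ∈ Kc p := (iInf_le Kc p : M ≤ Kc p) m.2
    refine (Pc p).not_dvd_index ?_
    rw [(hKc p).index_eq_card]
    exact hqo.trans (Subgroup.orderOf_dvd_natCard _ hmK)
  by_cases hM1 : M = ⊥
  · -- the quotient is nilpotent
    have : ∀ p : ι, Group.IsNilpotent ((N ⧸ Subgroup.center N) ⧸ Kc p) := fun p => by
      have := Fact.mk p.2.1
      obtain ⟨n, hn⟩ := IsPGroup.iff_card.mp (Pc p).2
      exact (IsPGroup.of_card (n := n) (by
        rw [← Subgroup.index_eq_card, (hKc p).symm.index_eq_card, hn])).isNilpotent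
    let f : N ⧸ Subgroup.center N →* ∀ p : ι, (N ⧸ Subgroup.center N) ⧸ Kc p :=
      Pi.monoidHom fun p => QuotientGroup.mk' (Kc p)
    have hf : Function.Injective f := by
      rw [← MonoidHom.ker_eq_bot_iff, eq_bot_iff, ← hM1, hM]
      exact le_iInf fun p g hg => (QuotientGroup.eq_one_iff g).mp (congrFun hg p)
    have hq : Group.IsNilpotent (N ⧸ Subgroup.center N) :=
      Group.nilpotent_of_mulEquiv (MonoidHom.ofInjective hf).symm
    have hNnil : Group.IsNilpotent N :=
      Subgroup.isNilpotent_of_ker_le_center π (by rw [hπdef, QuotientGroup.ker_mk'])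
    exact hno (exists_of_nilpotent hN le_rfl hNnil hx₀.1 hx₀)
  · obtain ⟨m, hm, hm1⟩ := M.bot_or_exists_ne_one.resolve_left hM1
    obtain ⟨y, rfl⟩ := hπ m
    exact hno (exists_of_nilpotent' hN (hMn.comap π) (isNilpotent_comap_center hMnil)
      (show y ∈ M.comap π from hm) ((hnc_iff y).mpr fun h => hm1 ((QuotientGroup.eq_one_iff y).mpr h)))

end Cfsg.Agent.Lib.MaxCentralisers
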