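import Mathlib
import Cfsg.Agent.Lib.MaxCentralisers.Basic
import Cfsg.Agent.Lib.PGroup.Frattini

/-!
The structure of a normal subgroup all of whose noncentral elements have maximal centralisers.
-/

set_option autoImplicit false

namespace Cfsg.Agent.Lib.MaxCentralisers

universe u

open Cfsg Cfsg.Agent.Lib
open scoped commutatorElement

variable {G : Type u} [Group G] [Finite G] {N P : Subgroup G} {p : ℕ}

/-- The data: a largest normal `p`-subgroup of `G` in `N`, with a noncentral element. -/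
structure Data (N P : Subgroup G) (p : ℕ) : Prop where
  hN : N.Normal
  hyp : Hyp N
  prime : p.Prime
  normal : P.Normal
  le : P ≤ N
  pgroup : IsPGroup p P
  max : ∀ Q : Subgroup G, Q.Normal → Q ≤ N → IsPGroup p Q → Q ≤ P
  exists_nc : ∃ x ∈ P, Nc N x

/-- Existence of the data. -/
theorem exists_data (hN : N.Normal) (H : Hyp N) {x : G} (hx : Nc N x) :
    ∃ (p : ℕ) (P : Subgroup G), Data N P p := by
  obtain ⟨p, P, hp, hPn, hPN, hPp, y, hy, hync⟩ := exists_noncentral_pGroup hN H hx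
  refine ⟨p, pCore p G ⊓ N, hN, H, hp, ?_, inf_le_right, PSolvable.pCore_isPGroup.to_le inf_le_left,
    fun Q hQ hQN hQp => le_inf (PSolvable.le_pCore (hN := hQ) hQp) hQN,
    y, ⟨PSolvable.le_pCore (hN := hPn) hPp hy, hPN hy⟩, hync⟩
  have := PSolvable.pCore_characteristic (p := p) (G := G)
  infer_instance

namespace Data

variable (D : Data N P p)
include D

theorem conj_mem {a : G} (g : G) (ha : a ∈ P) : g * a * g⁻¹ ∈ P := D.normal.conj_mem a ha g

theorem cen_normal : (cen N).Normal := MaxCentralisers.cen_normal D.hN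

/-- A normal subgroup not centralised by `z` supplements `C(z)` in `N`. -/
theorem exists_mul {Y : Subgroup G} (hY : Y.Normal) (hYN : Y ≤ N) {z : G} (hz : Nc N z)
    (hYz : ¬ Y ≤ Subgroup.centralizer ({z} : Set G)) {n : G} (hn : n ∈ N) :
    ∃ y ∈ Y, ∃ d ∈ N, Commute d z ∧ y * d = n := by
  have htop : Y ⊔ Subgroup.centralizer ({z} : Set G) = ⊤ :=
    (D.hyp z hz.1 hz.2).2 _ (lt_of_le_of_ne le_sup_right fun e => hYz (sup_eq_right.mp e.symm))
  obtain ⟨y, hy, d, hd, rfl⟩ := Subgroup.mem_sup_of_normal_left.mp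
    (show n ∈ Y ⊔ Subgroup.centralizer ({z} : Set G) by rw [htop]; exact Subgroup.mem_top n)
  exact ⟨y, hy, d, (Subgroup.mul_mem_cancel_left N (hYN hy)).mp hn,
    Subgroup.mem_centralizer_singleton_iff.mp hd, rfl⟩

/-- `Φ(P)` is central in `N`. -/
theorem frattini_le_cen : (frattini P).map P.subtype ≤ cen N := by
  intro f hf
  refine ⟨D.le (Subgroup.map_subtype_le _ hf), Subgroup.mem_centralizer_iff.mpr fun y hy => ?_⟩
  by_cases hyc : y ∈ cen N
  · exact (commute_of_cen hyc (D.le (Subgroup.map_subtype_le _ hf))).eq.symm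
  set M := Subgroup.centralizer ({y} : Set G) with hM
  suffices hle : (frattini P).map P.subtype ≤ M from
    (Subgroup.mem_centralizer_singleton_iff.mp (hle hf)).symm
  by_contra hle
  have := D.normal
  have hn : ((frattini P).map P.subtype).Normal := inferInstance
  have htop : (frattini P).map P.subtype ⊔ M = ⊤ :=
    (D.hyp y hy fun h => hyc ⟨hy, h⟩).2 _ (lt_of_le_of_ne le_sup_right fun e =>
      hle (sup_eq_right.mp e.symm))
  have h1 : M.subgroupOf P ⊔ frattini P = ⊤ := by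
    rw [eq_top_iff]
    intro a _
    obtain ⟨b, hb, m, hm, hbm⟩ := Subgroup.mem_sup_of_normal_left.mp
      (show (a : G) ∈ (frattini P).map P.subtype ⊔ M by rw [htop]; exact Subgroup.mem_top _)
    obtain ⟨b', hb', rfl⟩ := hb
    have hmP : m ∈ P := by
      have : m = (b' : G)⁻¹ * a := by rw [← hbm]; simp
      rw [this]; exact mul_mem (inv_mem b'.2) a.2
    rw [show a = b' * ⟨m, hmP⟩ from Subtype.ext hbm.symm]
    exact Subgroup.mul_mem _ (Subgroup.mem_sup_right hb') (Subgroup.mem_sup_left hm)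
  exact hle ((Subgroup.map_subtype_le _).trans
    (Subgroup.subgroupOf_eq_top.mp (frattini_nongenerating h1)))

theorem comm_mem_cen {a b : G} (ha : a ∈ P) (hb : b ∈ P) : a * b * a⁻¹ * b⁻¹ ∈ cen N := by
  have := Fact.mk D.prime
  exact D.frattini_le_cen (Subgroup.mem_map_of_mem P.subtype
    (PFrattini.commutator_le_frattini D.pgroup
      (Subgroup.commutator_mem_commutator (Subgroup.mem_top (⟨a, ha⟩ : P))
        (Subgroup.mem_top (⟨b, hb⟩ : P)))))

theorem pow_mem_cen {a : G} (ha : a ∈ P) : a ^ p ∈ cen N := by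
  have := Fact.mk D.prime
  exact D.frattini_le_cen (Subgroup.mem_map_of_mem P.subtype
    (PFrattini.pow_mem_frattini D.pgroup (⟨a, ha⟩ : P)))

/-- `P Z(N)`. -/
theorem mem_sup_iff {w : G} : w ∈ P ⊔ cen N ↔ ∃ a ∈ P, ∃ c ∈ cen N, a * c = w :=
  haveI := D.normal
  Subgroup.mem_sup_of_normal_left

theorem pow_cen_of_mem {w : G} (hw : w ∈ P ⊔ cen N) : w ^ p ∈ cen N := by
  obtain ⟨a, ha, c, hc, rfl⟩ := D.mem_sup_iff.mp hw
  rw [(commute_of_cen hc (D.le ha)).mul_pow]
  exact mul_mem (D.pow_mem_cen ha) (pow_mem hc p)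

theorem cen_of_pPrime {w : G} (hw : w ∈ P ⊔ cen N) (hwp : ¬ p ∣ orderOf w) : w ∈ cen N :=
  mem_of_pow_mem (a := orderOf w) (b := p)
    ((D.prime.coprime_iff_not_dvd.mpr hwp).symm) (by rw [pow_orderOf_eq_one]; exact one_mem _)
    (D.pow_cen_of_mem hw)

/-- A normal subgroup of `G` in `N` whose elements of order prime to `p` are central lies in
`P Z(N)`. -/
theorem le_sup_of_pPrime_central {Y : Subgroup G} (hY : Y.Normal) (hYN : Y ≤ N)
    (h : ∀ y ∈ Y, ¬ p ∣ orderOf y → y ∈ cen N) : Y ≤ P ⊔ cen N := by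
  have := Fact.mk D.prime
  intro y hy
  have hnil : Group.IsNilpotent Y := isNilpotent_of_pPrime_central p fun z hz => by
    rw [Subgroup.mem_center_iff]
    intro w
    exact Subtype.ext (commute_of_cen (h z z.2 (by rwa [Subgroup.orderOf_coe])) (hYN w.2)).eq
  obtain ⟨S⟩ : Nonempty (Sylow p Y) := inferInstance
  have hSn : (S : Subgroup Y).Normal :=
    S.normal_of_normalizerCondition Group.normalizerCondition_of_isNilpotent
  have : (S : Subgroup Y).Characteristic := Sylow.characteristic_of_normal S hSn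
  have hSP : (S : Subgroup Y).map Y.subtype ≤ P :=
    D.max _ inferInstance ((Subgroup.map_subtype_le _).trans hYN) (S.2.map _)
  obtain ⟨a, r, hr, har⟩ :=
    Nat.exists_eq_pow_mul_and_not_dvd (orderOf_pos y).ne' p D.prime.ne_one
  refine mem_of_pow_mem (a := r) (b := p ^ a)
    ((Nat.Coprime.pow_left a (D.prime.coprime_iff_not_dvd.mpr hr)).symm) ?_ ?_
  · refine Subgroup.mem_sup_left (hSP ⟨⟨y ^ r, pow_mem hy r⟩, mem_sylow_of_normal S ⟨a, ?_⟩, rfl⟩)
    rw [Subgroup.orderOf_mk, orderOf_pow_of_dvd (fun e => hr (by rw [e]; exact dvd_zero p))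
      (Dvd.intro_left _ har.symm), har,
      Nat.mul_div_cancel _ (Nat.pos_of_ne_zero fun e => hr (by rw [e]; exact dvd_zero p))]
  · refine Subgroup.mem_sup_right (h _ (pow_mem hy _) ?_)
    rw [orderOf_pow_of_dvd (pow_ne_zero _ D.prime.ne_zero) (Dvd.intro r har.symm), har,
      Nat.mul_div_cancel_left _ (pow_pos D.prime.pos _)]
    exact hr

/-- `C_N(P) ≤ P Z(N)`. -/
theorem centralizer_le {e : G} (heN : e ∈ N) (he : ∀ a ∈ P, Commute e a) : e ∈ P ⊔ cen N := by
  have := Fact.mk D.prime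
  set E := N ⊓ Subgroup.centralizer (P : Set G) with hE
  have hEn : E.Normal := by
    have := D.normal; have := D.hN
    rw [hE]; infer_instance
  have heE : e ∈ E := ⟨heN, Subgroup.mem_centralizer_iff.mpr fun a ha => (he a ha).eq.symm⟩
  by_contra heP
  obtain ⟨y, hyE, hyp, hyc⟩ : ∃ y ∈ E, ¬ p ∣ orderOf y ∧ y ∉ cen N := by
    by_contra hno
    push Not at hno
    exact heP (D.le_sup_of_pPrime_central hEn inf_le_left hno heE)
  obtain ⟨x, hxP, hx⟩ := D.exists_nc
  have hync : Nc N y := ⟨hyE.1, fun h => hyc ⟨hyE.1, h⟩⟩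
  have hcop : ∀ a ∈ P, (orderOf a).Coprime (orderOf y) := by
    intro a ha
    obtain ⟨k, hk⟩ := IsPGroup.iff_orderOf.mp D.pgroup ⟨a, ha⟩
    rw [Subgroup.orderOf_mk] at hk
    rw [hk]
    exact Nat.Coprime.pow_left _ (D.prime.coprime_iff_not_dvd.mpr hyp)
  have hPy : ∀ a ∈ P, Commute a y := fun a ha => Subgroup.mem_centralizer_iff.mp hyE.2 a ha
  have hCP : ∀ a ∈ P, Nc N a →
      Subgroup.centralizer ({a} : Set G) = Subgroup.centralizer ({y} : Set G) := fun a ha hna =>
    centralizer_eq_of_coprime D.hyp hna hync (hPy a ha) (hcop a ha)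
  have hPab : ∀ a ∈ P, ∀ b ∈ P, Commute a b := by
    intro a ha b hb
    by_cases hna : Nc N a
    · by_cases hnb : Nc N b
      · have : a ∈ Subgroup.centralizer ({b} : Set G) := by
          rw [hCP b hb hnb, ← hCP a ha hna]
          exact Subgroup.mem_centralizer_singleton_iff.mpr rfl
        exact Subgroup.mem_centralizer_singleton_iff.mp this
      · exact commute_of_cen ((mem_cen_iff (D.le hb)).mpr hnb) (D.le ha)
    · exact (commute_of_cen ((mem_cen_iff (D.le ha)).mpr hna) (D.le hb)).symm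
  -- the centraliser of a noncentral element of `E`
  have hCE : ∀ d ∈ E, Nc N d →
      Subgroup.centralizer ({d} : Set G) = Subgroup.centralizer ({y} : Set G) := by
    intro d hd hdn
    obtain ⟨q, k, hq, hk, j, hj⟩ := exists_primary _ d rfl hdn
    rw [← centralizer_pow D.hyp hdn.1 hk]
    have hdx : Commute (d ^ k) x :=
      (Subgroup.mem_centralizer_iff.mp (pow_mem hd.2 k) x hxP).symm
    by_cases hqp : q = p
    · subst hqp
      refine centralizer_eq_of_coprime D.hyp hk hync ?_ ?_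
      · exact commute_pPrime D.hyp hq hx (by
          obtain ⟨i, hi⟩ := IsPGroup.iff_orderOf.mp D.pgroup ⟨x, hxP⟩
          exact ⟨i, by rwa [Subgroup.orderOf_mk] at hi⟩) hyE.1 (hPy x hxP).symm hyp
          (pow_mem hdn.1 k) hdx
      · rw [hj]; exact Nat.Coprime.pow_left _ (hq.coprime_iff_not_dvd.mpr hyp)
    · rw [centralizer_eq_of_coprime D.hyp hk hx hdx ?_, hCP x hxP hx]
      obtain ⟨i, hi⟩ := IsPGroup.iff_orderOf.mp D.pgroup ⟨x, hxP⟩
      rw [Subgroup.orderOf_mk] at hi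
      rw [hj, hi]
      exact Nat.Coprime.pow _ _ ((Nat.coprime_primes hq D.prime).mpr hqp)
  obtain ⟨z, hzN, hzE⟩ : ∃ z ∈ N, z ∉ E := by
    by_contra hall
    push Not at hall
    exact hx.2 (Subgroup.mem_centralizer_iff.mpr fun n hn =>
      (Subgroup.mem_centralizer_iff.mp (hall n hn).2 x hxP).symm)
  have hznc : Nc N z := ⟨hzN, fun h => hzE ⟨hzN, Subgroup.mem_centralizer_iff.mpr fun a ha =>
    Subgroup.mem_centralizer_iff.mp h a (D.le ha)⟩⟩
  obtain ⟨a, ha, d, hd, hdz, had⟩ := D.exists_mul D.normal D.le hznc (fun h =>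
    hzE ⟨hzN, Subgroup.mem_centralizer_iff.mpr fun a ha =>
      Subgroup.mem_centralizer_singleton_iff.mp (h ha)⟩) hyE.1
  have hdE : d ∈ E := by
    have : d = a⁻¹ * y := by rw [← had]; group
    rw [this]
    exact E.mul_mem (E.inv_mem ⟨D.le ha, Subgroup.mem_centralizer_iff.mpr fun b hb =>
      (hPab b hb a ha).eq⟩) hyE
  by_cases hdn : Nc N d
  · apply hzE
    refine ⟨hzN, Subgroup.mem_centralizer_iff.mpr fun b hb => ?_⟩
    by_cases hnb : Nc N b
    · have : z ∈ Subgroup.centralizer ({b} : Set G) := by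
        rw [hCP b hb hnb, ← hCE d hdE hdn]
        exact Subgroup.mem_centralizer_singleton_iff.mpr hdz.eq.symm
      exact (Subgroup.mem_centralizer_singleton_iff.mp this).symm
    · exact (commute_of_cen ((mem_cen_iff (D.le hb)).mpr hnb) hzN).eq.symm
  · exact hyc (D.cen_of_pPrime
      (D.mem_sup_iff.mpr ⟨a, ha, d, (mem_cen_iff hd).mpr hdn, had⟩) hyp)

/-- An element outside `P Z(N)` is noncentral and does not centralise `P`. -/
theorem not_le_centralizer {z : G} (hz : z ∈ N) (hz' : z ∉ P ⊔ cen N) :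
    Nc N z ∧ ¬ P ≤ Subgroup.centralizer ({z} : Set G) :=
  ⟨⟨hz, fun h => hz' (Subgroup.mem_sup_right ⟨hz, h⟩)⟩, fun h => hz' (D.centralizer_le hz
    fun _ ha => (Subgroup.mem_centralizer_singleton_iff.mp (h ha)).symm)⟩

theorem fixed_pPrime {y a : G} (hy : y ∈ N) (hy' : y ∉ P ⊔ cen N) (hyp : ¬ p ∣ orderOf y)
    (ha : a ∈ P) (hay : Commute a y) : a ∈ cen N := by
  have := Fact.mk D.prime
  by_contra hac
  have hanc : Nc N a := ⟨D.le ha, fun h => hac ⟨D.le ha, h⟩⟩
  obtain ⟨hync, hPy⟩ := D.not_le_centralizer hy hy'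
  set C := Subgroup.centralizer ({y} : Set G) with hC
  have := D.normal
  have htop : P ⊔ C = ⊤ :=
    (D.hyp y hy hync.2).2 _ (lt_of_le_of_ne le_sup_right fun e => hPy (sup_eq_right.mp e.symm))
  have hCw : ∀ w ∈ P, Nc N w → Commute w y → Subgroup.centralizer ({w} : Set G) = C := by
    intro w hw hwn hwy
    refine centralizer_eq_of_coprime D.hyp hwn hync hwy ?_
    obtain ⟨k, hk⟩ := IsPGroup.iff_orderOf.mp D.pgroup ⟨w, hw⟩
    rw [Subgroup.orderOf_mk] at hk
    rw [hk]
    exact Nat.Coprime.pow_left _ (D.prime.coprime_iff_not_dvd.mpr hyp)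
  -- the fixed points form a normal subgroup
  have hfix : ∀ g : G, ∀ w ∈ P, Commute w y → Commute (g * w * g⁻¹) y := by
    intro g w hw hwy
    obtain ⟨b, hb, c, hc, rfl⟩ := Subgroup.mem_sup_of_normal_left.mp
      (show g ∈ P ⊔ C by rw [htop]; exact Subgroup.mem_top g)
    have hcy : Commute c y := Subgroup.mem_centralizer_singleton_iff.mp hc
    have h1 : Commute (c * w * c⁻¹) y := (hcy.mul_left hwy).mul_left hcy.inv_left
    have hm : c * w * c⁻¹ ∈ P := D.conj_mem c hw
    have h2 : b * c * w * (b * c)⁻¹ =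
        (b * (c * w * c⁻¹) * b⁻¹ * (c * w * c⁻¹)⁻¹) * (c * w * c⁻¹) := by group
    rw [h2]
    exact (commute_of_cen (D.comm_mem_cen hb hm) hy).symm.mul_left h1
  have hCn : C.Normal := by
    refine ⟨fun c hc g => ?_⟩
    have hga : g⁻¹ * a * g ∈ P := by simpa using D.conj_mem g⁻¹ ha
    have hgay : Commute (g⁻¹ * a * g) y := by simpa using hfix g⁻¹ a ha hay
    have hgan : Nc N (g⁻¹ * a * g) := by
      refine ⟨D.le hga, fun h => hac ⟨D.le ha, ?_⟩⟩
      have := D.hN
      have h1 := (inferInstance : (Subgroup.centralizer (N : Set G)).Normal).conj_mem _ h g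
      simpa [mul_assoc] using h1
    rw [← hCw a ha hanc hay, Subgroup.mem_centralizer_singleton_iff]
    rw [← hCw _ hga hgan hgay, Subgroup.mem_centralizer_singleton_iff] at hc
    calc g * c * g⁻¹ * a = g * (c * (g⁻¹ * a * g)) * g⁻¹ := by group
      _ = g * ((g⁻¹ * a * g) * c) * g⁻¹ := by rw [hc]
      _ = a * (g * c * g⁻¹) := by group
  have := D.hN
  have : (N ⊓ C).Normal := inferInstance
  set K := (Subgroup.center (N ⊓ C : Subgroup G)).map (N ⊓ C).subtype with hK
  have hKn : K.Normal := inferInstance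
  have hKcomm : ∀ u ∈ K, ∀ v ∈ K, Commute u v := by
    rintro _ ⟨u, hu, rfl⟩ _ ⟨v, -, rfl⟩
    exact (congrArg Subtype.val (Subgroup.mem_center_iff.mp hu v)).symm
  have hyK : y ∈ K := ⟨⟨y, hy, Subgroup.mem_centralizer_singleton_iff.mpr rfl⟩,
    Subgroup.mem_center_iff.mpr fun d =>
      Subtype.ext (Subgroup.mem_centralizer_singleton_iff.mp d.2.2), rfl⟩
  apply hPy
  intro b hb
  rw [Subgroup.mem_centralizer_singleton_iff]
  set k := b * y * b⁻¹ * y⁻¹ with hk
  have hkK : k ∈ K := mul_mem (hKn.conj_mem y hyK b) (inv_mem hyK)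
  have hkP : k ∈ P := by
    have : k = b * (y * b⁻¹ * y⁻¹) := by rw [hk]; group
    rw [this]
    exact mul_mem hb (D.conj_mem y (inv_mem hb))
  have hpow : (k * y) ^ orderOf y = 1 := by
    rw [hk, inv_mul_cancel_right, conj_pow, pow_orderOf_eq_one, mul_one, mul_inv_cancel]
  rw [(hKcomm k hkK y hyK).mul_pow, pow_orderOf_eq_one, mul_one] at hpow
  obtain ⟨j, hj⟩ := IsPGroup.iff_orderOf.mp D.pgroup ⟨k, hkP⟩
  rw [Subgroup.orderOf_mk] at hj
  have hk1 : k ∈ (⊥ : Subgroup G) := mem_of_pow_mem (a := orderOf y) (b := p ^ j)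
    ((Nat.Coprime.pow_left j (D.prime.coprime_iff_not_dvd.mpr hyp)).symm)
    (by rw [hpow]; exact one_mem _) (by rw [← hj, pow_orderOf_eq_one]; exact one_mem _)
  exact mul_inv_eq_iff_eq_mul.mp (mul_inv_eq_one.mp (Subgroup.mem_bot.mp hk1))

/-- Some element of order prime to `p` lies outside `P Z(N)`, unless everything is in it. -/
theorem exists_pPrime (h : ¬ N ≤ P ⊔ cen N) :
    ∃ y ∈ N, ¬ p ∣ orderOf y ∧ y ∉ P ⊔ cen N := by
  by_contra hno
  push Not at hno
  exact h (D.le_sup_of_pPrime_central D.hN le_rfl fun y hy hyp =>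
    D.cen_of_pPrime (hno y hy hyp) hyp)

/-- No noncentral element of `P` commutes with an element outside `P Z(N)`. -/
theorem fixed {z a : G} (hz : z ∈ N) (hz' : z ∉ P ⊔ cen N) (ha : a ∈ P) (haz : Commute a z) :
    a ∈ cen N := by
  have := Fact.mk D.prime
  obtain ⟨b, r, hr, hbr⟩ :=
    Nat.exists_eq_pow_mul_and_not_dvd (orderOf_pos z).ne' p D.prime.ne_one
  have hr0 : 0 < r := Nat.pos_of_ne_zero fun e => hr (by rw [e]; exact dvd_zero p)
  have ho1 : orderOf (z ^ (p ^ b)) = r := by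
    rw [orderOf_pow_of_dvd (pow_ne_zero _ D.prime.ne_zero) (Dvd.intro r hbr.symm), hbr,
      Nat.mul_div_cancel_left _ (pow_pos D.prime.pos _)]
  by_cases h1 : z ^ (p ^ b) ∈ P ⊔ cen N
  swap
  · exact D.fixed_pPrime (pow_mem hz _) h1 (by rwa [ho1]) ha (haz.pow_right _)
  set w := z ^ r with hw
  have hwo : orderOf w = p ^ b := by
    rw [hw, orderOf_pow_of_dvd hr0.ne' (Dvd.intro_left _ hbr.symm), hbr,
      Nat.mul_div_cancel _ hr0]
  have hwN : w ∈ N := pow_mem hz _
  have hw' : w ∉ P ⊔ cen N := fun h => hz' (mem_of_pow_mem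
    (Nat.Coprime.pow_left b (D.prime.coprime_iff_not_dvd.mpr hr)) h1 h)
  have haw : Commute a w := haz.pow_right _
  obtain ⟨hwnc, hPw⟩ := D.not_le_centralizer hwN hw'
  obtain ⟨y, hy, hyp, hy'⟩ := D.exists_pPrime fun h => hw' (h hwN)
  obtain ⟨e, he, d, hd, hdw, rfl⟩ := D.exists_mul D.normal D.le hwnc hPw hy
  obtain ⟨c, s, hs, hcs⟩ :=
    Nat.exists_eq_pow_mul_and_not_dvd (orderOf_pos d).ne' p D.prime.ne_one
  set d₁ := d ^ (p ^ c) with hd₁
  have hd₁o : ¬ p ∣ orderOf d₁ := by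
    rw [hd₁, orderOf_pow_of_dvd (pow_ne_zero _ D.prime.ne_zero) (Dvd.intro s hcs.symm), hcs,
      Nat.mul_div_cancel_left _ (pow_pos D.prime.pos _)]
    exact hs
  have hd₁N : d₁ ∈ N := pow_mem hd _
  by_cases hd₁c : d₁ ∈ cen N
  · -- then `y` is a `p`-element modulo `P Z(N)`
    exfalso
    apply hy'
    have := D.normal
    have := D.cen_normal
    have hn : (P ⊔ cen N).Normal := inferInstance
    set π := QuotientGroup.mk' (P ⊔ cen N) with hπ
    have h2 : (e * d) ^ (p ^ c) ∈ P ⊔ cen N := by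
      refine (QuotientGroup.eq_one_iff _).mp ?_
      show π ((e * d) ^ (p ^ c)) = 1
      rw [map_pow, map_mul, show π e = 1 from (QuotientGroup.eq_one_iff e).mpr
        (Subgroup.mem_sup_left he), one_mul, ← map_pow]
      exact (QuotientGroup.eq_one_iff _).mpr (Subgroup.mem_sup_right hd₁c)
    exact mem_of_pow_mem (a := orderOf (e * d)) (b := p ^ c)
      ((Nat.Coprime.pow_left c (D.prime.coprime_iff_not_dvd.mpr hyp)).symm)
      (by rw [pow_orderOf_eq_one]; exact one_mem _) h2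
  · have hda : Commute a d₁ := commute_pPrime D.hyp D.prime hwnc ⟨b, hwo⟩ hd₁N
      (hdw.pow_left _) hd₁o (D.le ha) haw
    exact D.fixed_pPrime hd₁N (fun h => hd₁c (D.cen_of_pPrime h hd₁o)) hd₁o ha hda

/-- `N / P Z(N)` is a chief factor. -/
theorem chief {Y : Subgroup G} (hY : Y.Normal) (hPY : P ≤ Y) (hYN : Y ≤ N) :
    Y ≤ P ⊔ cen N ∨ N ≤ Y ⊔ cen N := by
  obtain ⟨x, hxP, hx⟩ := D.exists_nc
  have hDx : ∀ d ∈ N, Commute d x → d ∈ P ⊔ cen N := fun d hd hdx => by_contra fun h =>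
    hx.2 (D.fixed hd h hxP hdx.symm).2
  by_cases hYx : Y ≤ Subgroup.centralizer ({x} : Set G)
  · exact Or.inl fun y hy =>
      hDx y (hYN hy) (Subgroup.mem_centralizer_singleton_iff.mp (hYx hy))
  · refine Or.inr fun n hn => ?_
    obtain ⟨y, hy, d, hd, hdx, rfl⟩ := D.exists_mul hY hYN hx hYx hn
    exact Subgroup.mul_mem _ (Subgroup.mem_sup_left hy)
      ((sup_le_sup_right hPY _ : P ⊔ cen N ≤ Y ⊔ cen N) (hDx d hd hdx))

end Data

end Cfsg.Agent.Lib.MaxCentralisers
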