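import Mathlib
import Cfsg.Prelude
import Cfsg.Agent.Lib.MaxCentralisers.Structure
import Cfsg.Agent.Lib.Frobenius.Basic
import Cfsg.Agent.Lib.Frobenius.FPF

/-!
The quotient by the centre of a normal subgroup all of whose noncentral elements have maximal
centralisers.
-/

set_option autoImplicit false

namespace Cfsg.Agent.Lib.MaxCentralisers

universe u

open Cfsg Cfsg.Agent.Lib

variable {G : Type u} [Group G] [Finite G] {N P : Subgroup G} {p : ℕ}

local notation "π" => QuotientGroup.mk' (Subgroup.center _)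

theorem mem_center_coe {n : N} : n ∈ Subgroup.center N ↔ (n : G) ∈ cen N :=
  ⟨fun h => ⟨n.2, Subgroup.mem_centralizer_iff.mpr fun m hm =>
    congrArg Subtype.val (Subgroup.mem_center_iff.mp h ⟨m, hm⟩)⟩,
   fun h => Subgroup.mem_center_iff.mpr fun m => Subtype.ext (commute_of_cen h m.2).eq⟩

theorem mk_eq_one {n : N} : (π n : N ⧸ Subgroup.center N) = 1 ↔ (n : G) ∈ cen N :=
  (QuotientGroup.eq_one_iff n).trans mem_center_coe

theorem commute_mk {n m : N} :
    Commute (π n : N ⧸ Subgroup.center N) (π m) ↔ (n : G) * m * (n : G)⁻¹ * (m : G)⁻¹ ∈ cen N := by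
  rw [show ((n : G) * m * (n : G)⁻¹ * (m : G)⁻¹) = ((n * m * n⁻¹ * m⁻¹ : N) : G) by rfl,
    ← mk_eq_one, map_mul, map_mul, map_mul, map_inv, map_inv, mul_inv_eq_one, mul_inv_eq_iff_eq_mul]
  exact Iff.rfl

/-- The image in `N/Z(N)`. -/
def img (N Y : Subgroup G) : Subgroup (N ⧸ Subgroup.center N) :=
  (Y.subgroupOf N).map (QuotientGroup.mk' (Subgroup.center N))

theorem mk_mem_img {Y : Subgroup G} {n : N} (h : (n : G) ∈ Y) : π n ∈ img N Y :=
  Subgroup.mem_map_of_mem _ h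

theorem mem_img {Y : Subgroup G} {q : N ⧸ Subgroup.center N} (h : q ∈ img N Y) :
    ∃ n : N, (n : G) ∈ Y ∧ π n = q := h

namespace Data

variable (D : Data N P p)
include D

theorem mem_cen_of_commute_pPrime {d a : N} (hdp : ¬ p ∣ orderOf (d : G))
    (hd' : (d : G) ∉ P ⊔ cen N) (ha : (a : G) ∈ P)
    (hc : Commute (π d : N ⧸ Subgroup.center N) (π a)) : (a : G) ∈ cen N := by
  refine D.fixed_pPrime d.2 hd' hdp ha ?_
  set c : G := (d : G) * a * (d : G)⁻¹ * (a : G)⁻¹ with hcdef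
  have hcc : c ∈ cen N := commute_mk.mp hc
  have hca : Commute (a : G) c := commute_of_cen hcc a.2
  have hcd : Commute (d : G) c := commute_of_cen hcc d.2
  have hconj : MulAut.conj (d : G) (a : G) = c * a := by
    rw [MulAut.conj_apply, hcdef]; group
  have hcp : c ^ p = 1 := by
    have h1 : MulAut.conj (d : G) ((a : G) ^ p) = (a : G) ^ p := by
      rw [MulAut.conj_apply, (commute_of_cen (D.pow_mem_cen ha) d.2).eq, mul_inv_cancel_right]
    rw [map_pow, hconj, hca.symm.mul_pow] at h1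
    exact mul_eq_right.mp h1
  have hk : ∀ k : ℕ, MulAut.conj ((d : G) ^ k) (a : G) = c ^ k * a := by
    intro k
    induction k with
    | zero => simp
    | succ k ih =>
      rw [pow_succ', map_mul, MulAut.mul_apply, ih, map_mul, hconj, MulAut.conj_apply,
        ((hcd.pow_right k)).eq, mul_inv_cancel_right, pow_succ, hcdef]
      group
  have hco : c ^ orderOf (d : G) = 1 := by
    have := hk (orderOf (d : G))
    rw [pow_orderOf_eq_one, map_one, MulAut.one_apply] at this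
    exact mul_eq_right.mp this.symm
  have hc1 : c = 1 := Subgroup.mem_bot.mp (mem_of_pow_mem (H := ⊥)
    (D.prime.coprime_iff_not_dvd.mpr hdp).symm (Subgroup.mem_bot.mpr hco)
    (Subgroup.mem_bot.mpr hcp))
  rw [hcdef, mul_inv_eq_one, mul_inv_eq_iff_eq_mul] at hc1
  exact hc1.symm

theorem mem_cen_of_commute {y d a : N} (hyp : ¬ p ∣ orderOf (y : G))
    (hy' : (y : G) ∉ P ⊔ cen N) (hdy : Commute (d : G) (y : G)) (hd : (d : G) ∉ cen N)
    (ha : (a : G) ∈ P) (hc : Commute (π d : N ⧸ Subgroup.center N) (π a)) :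
    (a : G) ∈ cen N := by
  obtain ⟨b, r, hr, hbr⟩ :=
    Nat.exists_eq_pow_mul_and_not_dvd (orderOf_pos (d : G)).ne' p D.prime.ne_one
  have hr0 : 0 < r := Nat.pos_of_ne_zero fun e => hr (by rw [e]; exact dvd_zero p)
  have ho1 : orderOf ((d : G) ^ (p ^ b)) = r := by
    rw [orderOf_pow_of_dvd (pow_ne_zero _ D.prime.ne_zero) (Dvd.intro r hbr.symm), hbr,
      Nat.mul_div_cancel_left _ (pow_pos D.prime.pos _)]
  by_cases h1 : (d : G) ^ (p ^ b) ∈ cen N
  swap
  · refine D.mem_cen_of_commute_pPrime (d := d ^ (p ^ b)) (by simpa [ho1] using hr) ?_ ha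
      (by rw [map_pow]; exact hc.pow_left _)
    exact fun h => h1 (D.cen_of_pPrime (by simpa using h) (by rwa [ho1]))
  set w : N := d ^ r with hwdef
  have hwo : orderOf (w : G) = p ^ b := by
    rw [hwdef, SubmonoidClass.coe_pow, orderOf_pow_of_dvd hr0.ne' (Dvd.intro_left _ hbr.symm), hbr,
      Nat.mul_div_cancel _ hr0]
  have hwc : (w : G) ∉ cen N := fun h => hd (mem_of_pow_mem
    (Nat.Coprime.pow_left b (D.prime.coprime_iff_not_dvd.mpr hr)) h1 (by simpa [hwdef] using h))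
  have hyc : (y : G) ∉ cen N := fun h => hy' (Subgroup.mem_sup_right h)
  have hwy : Commute (w : G) (y : G) := by simpa [hwdef] using hdy.pow_left r
  have hC := centralizer_eq_of_coprime D.hyp ⟨w.2, fun h => hwc ⟨w.2, h⟩⟩
    ⟨y.2, fun h => hyc ⟨y.2, h⟩⟩ hwy
    (by rw [hwo]; exact Nat.Coprime.pow_left _ (D.prime.coprime_iff_not_dvd.mpr hyp))
  set c : G := (w : G) * a * (w : G)⁻¹ * (a : G)⁻¹ with hcdef
  have hcc : c ∈ cen N := commute_mk.mp (by rw [hwdef, map_pow]; exact hc.pow_left _)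
  have hca : Commute (a : G) c := commute_of_cen hcc a.2
  have hcy : Commute (y : G) c := commute_of_cen hcc y.2
  have hconja : MulAut.conj (w : G) (a : G) = c * a := by
    rw [MulAut.conj_apply, hcdef]; group
  have hconjy : MulAut.conj (w : G) (y : G) = y := by
    rw [MulAut.conj_apply, hwy.eq, mul_inv_cancel_right]
  set e : G := (y : G) * a * (y : G)⁻¹ * (a : G)⁻¹ with hedef
  have heP : e ∈ P := mul_mem (D.conj_mem _ ha) (inv_mem ha)
  have hew : MulAut.conj (w : G) e = e := by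
    rw [hedef]
    simp only [map_mul, map_inv, hconja, hconjy, mul_inv_rev]
    calc (y : G) * (c * a) * (y : G)⁻¹ * ((a : G)⁻¹ * c⁻¹)
        = (y : G) * c * (a * (y : G)⁻¹ * (a : G)⁻¹) * c⁻¹ := by group
      _ = c * ((y : G) * a * (y : G)⁻¹ * (a : G)⁻¹) * c⁻¹ := by rw [hcy.eq]; group
      _ = (y : G) * a * (y : G)⁻¹ * (a : G)⁻¹ := by
          have hec : Commute ((y : G) * a * (y : G)⁻¹ * (a : G)⁻¹) c :=
            ((hcy.mul_left hca).mul_left hcy.inv_left).mul_left hca.inv_left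
          rw [← hec.eq, mul_inv_cancel_right]
  rw [MulAut.conj_apply, mul_inv_eq_iff_eq_mul] at hew
  have hey : Commute e (y : G) := by
    have : e ∈ Subgroup.centralizer ({(y : G)} : Set G) :=
      hC ▸ Subgroup.mem_centralizer_singleton_iff.mpr hew.symm
    exact Subgroup.mem_centralizer_singleton_iff.mp this
  exact D.mem_cen_of_commute_pPrime hyp hy' ha
    (commute_mk.mpr (D.fixed_pPrime y.2 hy' hyp heP hey))

theorem elementary_img : IsElementaryAbelian p (img N P) := by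
  refine ⟨⟨⟨fun s t => Subtype.ext ?_⟩⟩, fun s hs => ?_⟩
  · obtain ⟨n, hn, hns⟩ := mem_img s.2
    obtain ⟨m, hm, hmt⟩ := mem_img t.2
    rw [Subgroup.coe_mul, Subgroup.coe_mul, ← hns, ← hmt]
    exact (commute_mk.mpr (D.comm_mem_cen hn hm)).eq
  · obtain ⟨n, hn, rfl⟩ := mem_img hs
    rw [← map_pow, mk_eq_one, SubmonoidClass.coe_pow]
    exact D.pow_mem_cen hn

theorem elementary_top (h : N ≤ P ⊔ cen N) :
    IsElementaryAbelian p (⊤ : Subgroup (N ⧸ Subgroup.center N)) := by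
  have he : img N P = ⊤ := by
    rw [eq_top_iff]
    intro q _
    obtain ⟨n, rfl⟩ := QuotientGroup.mk'_surjective _ q
    obtain ⟨a, ha, c, hc, hac⟩ := D.mem_sup_iff.mp (h n.2)
    have hn : n = (⟨a, D.le ha⟩ : N) * ⟨c, hc.1⟩ := Subtype.ext hac.symm
    rw [hn, map_mul, (mk_eq_one (n := (⟨c, hc.1⟩ : N))).mpr hc, mul_one]
    exact mk_mem_img ha
  rw [← he]
  exact D.elementary_img

/-- `N/PZ(N)` is abelian. -/
theorem comm_mem_sup {y : G} (hy : y ∈ N) (hyp : ¬ p ∣ orderOf y) (hy' : y ∉ P ⊔ cen N)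
    {n m : G} (hn : n ∈ N) (hm : m ∈ N) : n * m * n⁻¹ * m⁻¹ ∈ P ⊔ cen N := by
  have := D.normal
  have := D.cen_normal
  have := D.hN
  have : (P ⊔ cen N).Normal := inferInstance
  set q := QuotientGroup.mk' (P ⊔ cen N) with hq
  have : (N.map q).Normal := Subgroup.Normal.map D.hN q (QuotientGroup.mk'_surjective _)
  set Y := N ⊓ (Subgroup.centralizer (N.map q : Set (G ⧸ (P ⊔ cen N)))).comap q with hY
  have hYn : Y.Normal := by rw [hY]; infer_instance
  have hker : ∀ a ∈ P ⊔ cen N, q a = 1 := fun a ha => (QuotientGroup.eq_one_iff a).mpr ha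
  have hYmem : ∀ {a : G}, a ∈ N → (∀ b ∈ N, Commute (q a) (q b)) → a ∈ Y := fun ha h =>
    ⟨ha, Subgroup.mem_centralizer_iff.mpr (by rintro _ ⟨b, hb, rfl⟩; exact (h b hb).symm.eq)⟩
  have hle : ∀ a ∈ P ⊔ cen N, a ∈ N → a ∈ Y := fun a ha haN => hYmem haN fun b _ => by
    rw [hker a ha]; exact Commute.one_left _
  rcases D.chief hYn (fun a ha => hle a (Subgroup.mem_sup_left ha) (D.le ha)) inf_le_left
    with h | h
  · exfalso
    obtain ⟨hync, hPy⟩ := D.not_le_centralizer hy hy'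
    refine hy' (h (hYmem hy fun b hb => ?_))
    obtain ⟨a, ha, d, hd, hdy, rfl⟩ := D.exists_mul D.normal D.le hync hPy hb
    rw [map_mul, hker a (Subgroup.mem_sup_left ha), one_mul]
    exact hdy.symm.map q
  · have hsup : Y ⊔ cen N ≤ Y := sup_le le_rfl (fun c hc => hle c (Subgroup.mem_sup_right hc) hc.1)
    have hnY : n ∈ Y := hsup (h hn)
    have hcomm : Commute (q n) (q m) :=
      (Subgroup.mem_centralizer_iff.mp hnY.2 (q m) (Subgroup.mem_map_of_mem q hm)).symm
    refine (QuotientGroup.eq_one_iff _).mp ?_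
    show q (n * m * n⁻¹ * m⁻¹) = 1
    rw [map_mul, map_mul, map_mul, map_inv, map_inv, mul_inv_eq_one, mul_inv_eq_iff_eq_mul]
    exact hcomm.eq

/-- `N/PZ(N)` has prime exponent. -/
theorem exists_exponent {y : G} (hy : y ∈ N) (hyp : ¬ p ∣ orderOf y) (hy' : y ∉ P ⊔ cen N) :
    ∃ r : ℕ, r.Prime ∧ ∀ n ∈ N, n ^ r ∈ P ⊔ cen N := by
  have := D.normal
  have := D.cen_normal
  have := D.hN
  have hJn : (P ⊔ cen N).Normal := inferInstance
  set q := QuotientGroup.mk' (P ⊔ cen N) with hq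
  have hker : ∀ a ∈ P ⊔ cen N, q a = 1 := fun a ha => (QuotientGroup.eq_one_iff a).mpr ha
  have hkey : ∀ a : G, q a = 1 → a ∈ P ⊔ cen N := fun a => (QuotientGroup.eq_one_iff a).mp
  have hqy : q y ≠ 1 := fun e => hy' (hkey y e)
  obtain ⟨r, hr, hro⟩ := Nat.exists_prime_and_dvd (mt orderOf_eq_one_iff.mp hqy)
  refine ⟨r, hr, ?_⟩
  set y₁ := y ^ (orderOf (q y) / r) with hy₁
  have hy₁o : orderOf (q y₁) = r := by
    rw [hy₁, map_pow, orderOf_pow_orderOf_div (orderOf_pos _).ne' hro]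
  have hcomm : ∀ {a b : G}, a ∈ N → b ∈ N → Commute (q a) (q b) := by
    intro a b ha hb
    have := hker _ (D.comm_mem_sup hy hyp hy' ha hb)
    rw [map_mul, map_mul, map_mul, map_inv, map_inv, mul_inv_eq_one,
      mul_inv_eq_iff_eq_mul] at this
    exact this
  let Y : Subgroup G :=
    { carrier := {a | a ∈ N ∧ q a ^ r = 1}
      one_mem' := ⟨one_mem N, by rw [map_one, one_pow]⟩
      mul_mem' := fun {a b} ha hb => ⟨mul_mem ha.1 hb.1, by
        rw [map_mul, (hcomm ha.1 hb.1).mul_pow, ha.2, hb.2, one_mul]⟩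
      inv_mem' := fun {a} ha => ⟨inv_mem ha.1, by rw [map_inv, inv_pow, ha.2, inv_one]⟩ }
  have hYn : Y.Normal := ⟨fun a ha g => ⟨D.hN.conj_mem a ha.1 g, by
    rw [map_mul, map_mul, map_inv, conj_pow, ha.2, mul_one, mul_inv_cancel]⟩⟩
  have hle : ∀ a ∈ P ⊔ cen N, a ∈ N → a ∈ Y := fun a ha haN => ⟨haN, by rw [hker a ha, one_pow]⟩
  have hy₁Y : y₁ ∈ Y := ⟨pow_mem hy _, by rw [← hy₁o]; exact pow_orderOf_eq_one _⟩
  rcases D.chief hYn (fun a ha => hle a (Subgroup.mem_sup_left ha) (D.le ha)) (fun a ha => ha.1)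
    with h | h
  · exact absurd (hy₁o.symm.trans (orderOf_eq_one_iff.mpr (hker _ (h hy₁Y)))) hr.ne_one
  · intro n hn
    exact hkey _ (by
      rw [map_pow]
      have hsup : Y ⊔ cen N ≤ Y := sup_le le_rfl (fun c hc => hle c (Subgroup.mem_sup_right hc) hc.1)
      exact (hsup (h hn)).2)

theorem frobenius (h : ¬ N ≤ P ⊔ cen N) :
    ∃ (Q K : Subgroup (N ⧸ Subgroup.center N)),
      Cfsg.IsFrobeniusComplement Q ∧ (Nat.card Q).Prime ∧ K.Normal ∧
      (K : Set (N ⧸ Subgroup.center N)) = Cfsg.frobeniusKernel Q ∧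
      Cfsg.IsElementaryAbelian p K := by
  obtain ⟨y, hy, hyp, hy'⟩ := D.exists_pPrime h
  obtain ⟨hync, hPy⟩ := D.not_le_centralizer hy hy'
  set C := Subgroup.centralizer ({y} : Set G) with hC
  set K := img N P with hK
  set H := img N C with hH
  have := D.normal
  have hPN : (P.subgroupOf N).Normal := inferInstance
  have hKn : K.Normal := Subgroup.Normal.map hPN _ (QuotientGroup.mk'_surjective _)
  have hKH : K ⊓ H = ⊥ := by
    rw [eq_bot_iff]
    rintro s ⟨hs1, hs2⟩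
    obtain ⟨a, ha, rfl⟩ := mem_img hs1
    obtain ⟨d, hd, hda⟩ := mem_img hs2
    rw [Subgroup.mem_bot, mk_eq_one]
    refine D.fixed_pPrime hy hy' hyp ha ?_
    have hcen : ((d⁻¹ * a : N) : G) ∈ cen N := mk_eq_one.mp (by
      rw [map_mul, map_inv, hda, inv_mul_cancel])
    have hdy : Commute (d : G) y := Subgroup.mem_centralizer_singleton_iff.mp hd
    have := hdy.mul_left (commute_of_cen hcen hy).symm
    simpa using this
  have hKsup : K ⊔ H = ⊤ := by
    rw [eq_top_iff]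
    intro s _
    obtain ⟨n, rfl⟩ := QuotientGroup.mk'_surjective _ s
    obtain ⟨a, ha, d, hd, hdy, had⟩ := D.exists_mul D.normal D.le hync hPy n.2
    have hn : n = (⟨a, D.le ha⟩ : N) * ⟨d, hd⟩ := Subtype.ext had.symm
    rw [hn, map_mul]
    exact mul_mem (Subgroup.mem_sup_left (mk_mem_img ha))
      (Subgroup.mem_sup_right (mk_mem_img (Subgroup.mem_centralizer_singleton_iff.mpr hdy.eq)))
  have hK1 : K ≠ ⊥ := by
    obtain ⟨x, hxP, hx⟩ := D.exists_nc
    intro e
    have := mk_mem_img (N := N) (n := ⟨x, hx.1⟩) hxP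
    rw [← hK, e, Subgroup.mem_bot, mk_eq_one] at this
    exact hx.2 this.2
  have hH1 : H ≠ ⊥ := by
    intro e
    have := mk_mem_img (N := N) (n := ⟨y, hy⟩) (Y := C)
      (Subgroup.mem_centralizer_singleton_iff.mpr rfl)
    rw [← hH, e, Subgroup.mem_bot, mk_eq_one] at this
    exact hy' (Subgroup.mem_sup_right this)
  have hc : Subgroup.IsComplement' K H := by
    refine Subgroup.isComplement'_of_disjoint_and_mul_eq_univ (disjoint_iff.mpr hKH) ?_
    rw [Set.eq_univ_iff_forall]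
    intro s
    obtain ⟨a, ha, b, hb, rfl⟩ := Subgroup.mem_sup_of_normal_left.mp
      (show s ∈ K ⊔ H by rw [hKsup]; exact Subgroup.mem_top s)
    exact Set.mul_mem_mul ha hb
  have hfpf : ∀ s ∈ H, s ≠ 1 → K ⊓ Subgroup.centralizer {s} = ⊥ := by
    intro s hs hs1
    rw [eq_bot_iff]
    rintro t ⟨htK, htC⟩
    obtain ⟨d, hd, rfl⟩ := mem_img hs
    obtain ⟨a, ha, rfl⟩ := mem_img htK
    rw [Subgroup.mem_bot, mk_eq_one]
    exact D.mem_cen_of_commute (y := ⟨y, hy⟩) hyp hy'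
      (Subgroup.mem_centralizer_singleton_iff.mp hd) (fun e => hs1 (mk_eq_one.mpr e)) ha
      (show Commute _ _ from (Subgroup.mem_centralizer_singleton_iff.mp htC).symm)
  have hHK : ∀ n : N, (n : G) ∈ P ⊔ cen N → π n ∈ H → (π n : N ⧸ Subgroup.center N) = 1 := by
    intro n hn hnH
    obtain ⟨a, ha, c, hc, hac⟩ := D.mem_sup_iff.mp hn
    have hn : n = (⟨a, D.le ha⟩ : N) * ⟨c, hc.1⟩ := Subtype.ext hac.symm
    have hnK : π n ∈ K := by
      rw [hn, map_mul, (mk_eq_one (n := (⟨c, hc.1⟩ : N))).mpr hc, mul_one]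
      exact mk_mem_img ha
    exact Subgroup.mem_bot.mp (hKH ▸ Subgroup.mem_inf.mpr ⟨hnK, hnH⟩)
  obtain ⟨r, hr, hexp⟩ := D.exists_exponent hy hyp hy'
  have hHpow : ∀ s ∈ H, s ^ r = 1 := by
    intro s hs
    obtain ⟨n, hn, rfl⟩ := mem_img hs
    rw [← map_pow]
    exact hHK _ (by simpa using hexp n n.2) (by rw [map_pow]; exact pow_mem (mk_mem_img hn) r)
  have hHcomm : ∀ s t : H, Commute s t := by
    intro s t
    obtain ⟨n, hn, hns⟩ := mem_img s.2
    obtain ⟨m, hm, hmt⟩ := mem_img t.2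
    refine Subtype.ext ?_
    rw [Subgroup.coe_mul, Subgroup.coe_mul, ← hns, ← hmt]
    have := hHK (n * m * n⁻¹ * m⁻¹) (D.comm_mem_sup hy hyp hy' n.2 m.2)
      (mk_mem_img (mul_mem (mul_mem (mul_mem hn hm) (inv_mem hn)) (inv_mem hm)))
    rw [map_mul, map_mul, map_mul, map_inv, map_inv, mul_inv_eq_one, mul_inv_eq_iff_eq_mul] at this
    exact this
  have hle : H ≤ Subgroup.normalizer (K : Set (N ⧸ Subgroup.center N)) := fun s _ => by
    rw [Subgroup.normalizer_eq_top]; exact Subgroup.mem_top s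
  have hcyc : IsCyclic H := by
    have hKc := D.elementary_img.1
    letI : CommGroup K :=
      { (inferInstance : Group K) with mul_comm := fun a b => hKc.is_comm.comm a b }
    letI := Frobenius.FPF.conjAction H K hle
    have : Nontrivial K := (Subgroup.nontrivial_iff_ne_bot K).mpr hK1
    exact Frobenius.FPF.isCyclic_of_commute (V := K) (Frobenius.FPF.isFPF_conjAction H K hle hfpf) hHcomm
  have hHcard : Nat.card H = r := by
    obtain ⟨s, hs⟩ := hcyc.exists_generator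
    rw [← orderOf_eq_card_of_forall_mem_zpowers hs]
    have hd : orderOf s ∣ r := orderOf_dvd_of_pow_eq_one (Subtype.ext (hHpow s s.2))
    rcases (Nat.dvd_prime hr).mp hd with h1 | h1
    · exfalso
      apply hH1
      rw [eq_bot_iff]
      intro t ht
      have := hs ⟨t, ht⟩
      rw [orderOf_eq_one_iff.mp h1, Subgroup.zpowers_one_eq_bot, Subgroup.mem_bot] at this
      exact Subgroup.mem_bot.mpr (congrArg Subtype.val this)
    · exact h1
  have hF := Frobenius.isFrobeniusComplement_of_fpf hc hK1 hH1 hfpf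
  refine ⟨H, K, hF, hHcard ▸ hr, hKn, ?_, D.elementary_img⟩
  refine Set.eq_of_subset_of_ncard_le (fun s hs => ?_) ?_ (Set.toFinite _)
  · refine or_iff_not_imp_left.mpr fun hs1 g hg => hs1 ?_
    rw [Subgroup.mem_pointwise_smul_iff_inv_smul_mem] at hg
    have hg' : (MulAut.conj g)⁻¹ • s ∈ K := by
      rw [← map_inv, MulAut.smul_def, MulAut.conj_apply]
      exact hKn.conj_mem s hs g⁻¹
    have := Subgroup.mem_bot.mp (hKH ▸ Subgroup.mem_inf.mpr ⟨hg', hg⟩)
    rwa [MulAut.smul_def, EmbeddingLike.map_eq_one_iff] at this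
  · rw [← Nat.card_coe_set_eq, ← Nat.card_coe_set_eq, Frobenius.card_frobeniusKernel hF,
      hc.index_eq_card]
    exact le_rfl

end Data

theorem main (hN : N.Normal) (H : Hyp N) :
    (∃ p : ℕ, p.Prime ∧ Cfsg.IsElementaryAbelian p (⊤ : Subgroup (N ⧸ Subgroup.center N))) ∨
    (∃ (Q K : Subgroup (N ⧸ Subgroup.center N)) (p : ℕ), p.Prime ∧
      Cfsg.IsFrobeniusComplement Q ∧ (Nat.card Q).Prime ∧ K.Normal ∧
      (K : Set (N ⧸ Subgroup.center N)) = Cfsg.frobeniusKernel Q ∧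
      Cfsg.IsElementaryAbelian p K) := by
  by_cases hx : ∃ x, Nc N x
  · obtain ⟨x, hx⟩ := hx
    obtain ⟨p, P, D⟩ := exists_data hN H hx
    by_cases h : N ≤ P ⊔ cen N
    · exact Or.inl ⟨p, D.prime, D.elementary_top h⟩
    · obtain ⟨Q, K, h'⟩ := D.frobenius h
      exact Or.inr ⟨Q, K, p, D.prime, h'⟩
  · push Not at hx
    have h1 : ∀ q : N ⧸ Subgroup.center N, q = 1 := by
      intro q
      obtain ⟨n, rfl⟩ := QuotientGroup.mk'_surjective _ q
      exact mk_eq_one.mpr ((mem_cen_iff n.2).mpr (hx n))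
    exact Or.inl ⟨2, Nat.prime_two, ⟨⟨fun a b => Subtype.ext
      (by rw [h1 (a * b : (⊤ : Subgroup (N ⧸ Subgroup.center N))), h1 (b * a : (⊤ : Subgroup (N ⧸ Subgroup.center N)))])⟩⟩,
      fun a _ => h1 _⟩

end Cfsg.Agent.Lib.MaxCentralisers
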